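import Groth.Agent.SpThick.Affine
import Groth.Agent.AlgSpLib.ShriekEqv
import Groth.Agent.AlgSpLib.Glue
import Groth.Agent.EtInvariance.Thick

/-!
# Thickenings of schemes by algebraic spaces are schemes
-/

set_option autoImplicit false

universe u

open CategoryTheory CategoryTheory.Limits AlgebraicGeometry

set_option backward.isDefEq.respectTransparency false

namespace Groth.Agent.SpThick

open _root_.AlgSp Groth.Agent.AlgSpLib

variable {S : Scheme.{u}}

/-- a thickening of an affine scheme by an algebraic space is affine, over any base -/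
theorem exists_affine_of_thick' {X X' : Sp S} (hX' : IsAlgSpace X') {i : X ⟶ X'} (hi : IsThickMor i)
    (T : Over S) [IsAffine T.left] (e : (yon S).obj T ≅ X) :
    ∃ T' : Over S, IsAffine T'.left ∧ Nonempty ((yon S).obj T' ≅ X') := by
  let g := terminal.from S
  have hi' : IsThickMor ((ShriekS.jFun g).map i) := (ShriekS.repWith_jFun_iff g thick i).2 hi
  have : IsAffine ((Over.map g).obj T).left := ‹IsAffine T.left›
  obtain ⟨T'', hT'', ⟨θ⟩⟩ := exists_affine_of_thick terminalIsTerminal (ShriekS.isAlgSpace_jFun g hX') hi'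
    ((Over.map g).obj T) (ShriekS.jYonIso g T ≪≫ (ShriekS.jFun g).mapIso e)
  obtain ⟨m, hm⟩ := exists_map_eq (θ.hom ≫ ShriekS.jπ g X')
  let T₁ : Over S := Over.mk m.left
  have : IsAffine T₁.left := hT''
  let ε : (Over.map g).obj T₁ ≅ T'' := Over.isoMk (Iso.refl _) (terminalIsTerminal.hom_ext _ _)
  let β := (ShriekS.jYonIso g T₁).inv ≫ (yon _).map ε.hom ≫ θ.hom
  have hβ : β ≫ ShriekS.jπ g X' = ShriekS.jπ g ((yon S).obj T₁) := by
    have h1 : (ShriekS.jYonIso g T₁).hom ≫ ShriekS.jπ g ((yon S).obj T₁) = (yon _).map (ε.hom ≫ m) := by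
      ext W ⟨f⟩
      refine ULift.ext _ _ (Over.OverMorphism.ext ?_)
      show f.left ≫ m.left = f.left ≫ 𝟙 _ ≫ m.left
      rw [Category.id_comp]
    simp only [β, Category.assoc]
    rw [← hm, ← Functor.map_comp, ← h1, Iso.inv_hom_id_assoc]
  obtain ⟨α, hα⟩ := ShriekS.exists_jFun_eq g β hβ
  have : IsIso α := (isIso_iff_repWith α).2
    ((ShriekS.repWith_jFun_iff g (MorphismProperty.isomorphisms Scheme.{u}) α).1
      ((isIso_iff_repWith _).1 (by rw [hα]; infer_instance)))
  exact ⟨T₁, inferInstance, ⟨asIso α⟩⟩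

/-- a thickening of a scheme by an algebraic space is a scheme -/
theorem exists_scheme_of_thick {X X' : Sp S} (hX' : IsAlgSpace X') {i : X ⟶ X'} (hi : IsThickMor i)
    {T : Over S} (e : (yon S).obj T ≅ X) : ∃ T' : Over S, Nonempty ((yon S).obj T' ≅ X') := by
  have hh := (EtInvariance.IsUH.of_thick hi).isHomeomorph
  have hic : RepWith @IsClosedImmersion i := repWith_mono (fun _ _ _ h => h.1) hi
  have hX : IsAlgSpace X := SchImg.isAlgSpace_of_closed hX' hic
  let ι := {O : T.left.Opens // IsAffineOpen O}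
  let Q : ι → Over S := fun O => Over.mk (O.1.ι ≫ T.hom)
  let j : ∀ O, Q O ⟶ T := fun O => Over.homMk O.1.ι rfl
  let q : ∀ O, (yon S).obj (Q O) ⟶ X := fun O => (yon S).map (j O) ≫ e.hom
  have hq : ∀ O, RepWith @IsOpenImmersion (q O) := fun O =>
    (repWith_comp_iso_iff _ e.hom).2 ((repWith_yon_iff (j O)).2 (inferInstanceAs (IsOpenImmersion O.1.ι)))
  let W : ι → Set (Points X') := fun O => Points.map i '' Set.range (Points.map (q O))
  have hopen : ∀ O, IsOpen (W O) := fun O => by
    have : Mono (q O) := mono_of_repWith_immersion (repWith_mono (P := @IsOpenImmersion) (Q := @IsImmersion)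
      (fun _ _ g hg => have : IsOpenImmersion g := hg; inferInstance) (hq O))
    exact hh.isOpenMap _ (exists_iso_subSheaf_of_mono (IsAlgSpace.yon_obj _) hX (q O)
      (isEtaleMor_of_repWith' (repWith_mono (P := @IsOpenImmersion) (Q := @Etale)
        (fun _ _ g hg => have : IsOpenImmersion g := hg; inferInstance) (hq O)))).1
  have hsub : ∀ O, ∃ V : Over S, Nonempty ((yon S).obj V ≅ subSheaf (W O)) := fun O => by
    have sq := IsPullback.of_hasPullback i (subInc (W O))
    have hP : IsAlgSpace (pullback i (subInc (W O))) :=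
      isAlgSpace_of_isPullback_space hX' hX (isAlgSpace_subSheaf hX' (hopen O)) sq
    have hp : RepWith @IsOpenImmersion (pullback.fst i (subInc (W O))) :=
      repWith_baseChange sq.flip (repWith_subInc (hopen O))
    have : Mono (q O) := mono_of_repWith_immersion (repWith_mono (P := @IsOpenImmersion) (Q := @IsImmersion)
      (fun _ _ g hg => have : IsOpenImmersion g := hg; inferInstance) (hq O))
    obtain ⟨a, ha⟩ := (exists_factor_iff hP hX _ hp (q O)).2 (by
      rintro _ ⟨x, rfl⟩
      obtain ⟨y, hy⟩ : Points.map i (Points.map (q O) x) ∈ Set.range (Points.map (subInc (W O))) := by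
        rw [range_subInc]
        exact ⟨_, ⟨x, rfl⟩, rfl⟩
      obtain ⟨z, hz, -⟩ := exists_point_of_isPullback sq (Points.map (q O) x) y hy.symm
      exact ⟨z, hz⟩)
    obtain ⟨b, hb⟩ := (exists_factor_iff (IsAlgSpace.yon_obj _) hX _ (hq O) (pullback.fst i (subInc (W O)))).2 (by
      rintro _ ⟨x, rfl⟩
      have h1 : Points.map i (Points.map (pullback.fst i (subInc (W O))) x) ∈ W O := by
        rw [← Points.map_comp, pullback.condition, Points.map_comp]
        exact map_subInc_mem _
      obtain ⟨y, hy, hy'⟩ := h1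
      rwa [← hh.injective hy'])
    let e' : (yon S).obj (Q O) ≅ pullback i (subInc (W O)) :=
      ⟨a, b, (cancel_mono (q O)).1 (by rw [Category.assoc, hb, ha, Category.id_comp]),
        (cancel_mono (pullback.fst i (subInc (W O)))).1 (by rw [Category.assoc, ha, hb, Category.id_comp])⟩
    have : IsAffine (Q O).left := O.2
    obtain ⟨V, -, hV⟩ := exists_affine_of_thick' (isAlgSpace_subSheaf hX' (hopen O)) (repWith_baseChange sq hi)
      (Q O) e'
    exact ⟨V, hV⟩
  choose V hV using hsub
  let ψ := fun O => Classical.choice (hV O)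
  obtain ⟨T', ⟨θ⟩⟩ := exists_iso_yon_of_open_cover hX' V (fun O => (ψ O).hom ≫ subInc (W O))
    (fun O => (repWith_iso_comp_iff _ _).2 (repWith_subInc (hopen O))) (fun x' => by
      obtain ⟨x, rfl⟩ := hh.surjective x'
      obtain ⟨z, hz⟩ := (Points.schemeHomeo T).surjective (Points.map e.inv x)
      obtain ⟨O, hO, hzO, -⟩ := exists_isAffineOpen_mem_and_subset (x := z) (U := ⊤) trivial
      refine ⟨⟨O, hO⟩, ?_⟩
      have hx : Points.map i x ∈ W ⟨O, hO⟩ := by
        refine ⟨x, ⟨Points.ofPt (𝟙 _) (⟨z, hzO⟩ : O), ?_⟩, rfl⟩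
        rw [Points.map_ofPt, Category.id_comp]
        show Points.ofPt ((yon S).map (j ⟨O, hO⟩) ≫ e.hom) _ = x
        rw [← Points.map_ofPt, ← Category.comp_id ((yon S).map (j ⟨O, hO⟩)), ofPt_comp]
        show Points.map e.hom (Points.schemeHomeo T z) = x
        rw [hz, ← Points.map_comp, e.inv_hom_id, Points.map_id]
      obtain ⟨y, hy⟩ := (range_subInc (W ⟨O, hO⟩)).symm ▸ hx
      exact ⟨Points.map (ψ _).inv y, by rw [← Points.map_comp, Iso.inv_hom_id_assoc, hy]⟩)
  exact ⟨T', ⟨θ.symm⟩⟩

end Groth.Agent.SpThick
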