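import Groth.Agent.SpThick.Main
import Groth.Agent.AlgSpLib.FpqcProps

/-!
# Morphisms of thickenings: representable, affine, integral
-/

set_option autoImplicit false

universe u

open CategoryTheory CategoryTheory.Limits AlgebraicGeometry

set_option backward.isDefEq.respectTransparency false

namespace Groth.Agent.SpThick

open _root_.AlgSp Groth.Agent.AlgSpLib

variable {S : Scheme.{u}} {X X' Y Y' : Sp S} {i : X ⟶ X'} {j : Y ⟶ Y'} {f : X ⟶ Y} {f' : X' ⟶ Y'}

/-- base changes of the two morphisms are related by a thickening -/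
theorem exists_thick_baseChange (hi : IsThickMor i) (hj : IsThickMor j) (w : i ≫ f' = f ≫ j) (hf : Representable f)
    {T : Over S} (ξ : (yon S).obj T ⟶ Y') :
    ∃ (T₀ W : Over S) (y : (yon S).obj T₀ ⟶ Y) (v : T₀ ⟶ T) (z : (yon S).obj W ⟶ X) (l : W ⟶ T₀)
      (k : (yon S).obj W ⟶ pullback f' ξ),
      thick v.left ∧ IsPullback z ((yon S).map l) f y ∧ IsThickMor k ∧
        k ≫ pullback.snd f' ξ = (yon S).map (l ≫ v) := by
  obtain ⟨T₀, y, v, sqV, hv⟩ := exists_repWith hj ξ
  let p := pullback.fst i (pullback.fst f' ξ)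
  let k₁ := pullback.snd i (pullback.fst f' ξ)
  have h₀ : (p ≫ f) ≫ j = (k₁ ≫ pullback.snd f' ξ) ≫ ξ := by
    rw [Category.assoc, Category.assoc, ← w, ← pullback.condition, pullback.condition_assoc]
  let l₁ := sqV.lift (p ≫ f) (k₁ ≫ pullback.snd f' ξ) h₀
  have sqP : IsPullback p l₁ f y := by
    refine IsPullback.of_bot ?_ (sqV.lift_fst _ _ _).symm sqV
    rw [sqV.lift_snd, ← w]
    exact (IsPullback.of_hasPullback i (pullback.fst f' ξ)).paste_vert (IsPullback.of_hasPullback f' ξ)
  obtain ⟨W, z, l, sqW⟩ := exists_isPullback_of_representable hf y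
  refine ⟨T₀, W, y, v, z, l, (sqW.isoIsPullback _ _ sqP).hom ≫ k₁, hv, sqW, ?_, ?_⟩
  · exact (repWith_iso_comp_iff _ _).2 (repWith_baseChange (IsPullback.of_hasPullback i (pullback.fst f' ξ)) hi)
  · rw [Category.assoc, ← sqV.lift_snd (p ≫ f) (k₁ ≫ pullback.snd f' ξ) h₀, ← Category.assoc,
      sqW.isoIsPullback_hom_snd, ← Functor.map_comp]

theorem representable_iff_of_thick (hX' : IsAlgSpace X') (hY' : IsAlgSpace Y') (hi : IsThickMor i) (hj : IsThickMor j)
    (w : i ≫ f' = f ≫ j) : Representable f ↔ Representable f' := by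
  refine ⟨fun hf => ?_, fun hf' => ?_⟩
  · suffices RepWith ⊤ f' from this.1
    refine repWith_of_exists fun T ξ => ?_
    obtain ⟨T₀, W, y, v, z, l, k, -, -, hk, -⟩ := exists_thick_baseChange hi hj w hf ξ
    have sq := IsPullback.of_hasPullback f' ξ
    have hP := isAlgSpace_of_isPullback_space hY' hX' (IsAlgSpace.yon_obj T) sq
    obtain ⟨W', ⟨θ⟩⟩ := exists_scheme_of_thick hP hk (Iso.refl _)
    obtain ⟨snd, hsnd⟩ := exists_map_eq (θ.hom ≫ pullback.snd f' ξ)
    exact ⟨W', θ.hom ≫ pullback.fst f' ξ, snd, sq.of_iso θ.symm (Iso.refl _) (Iso.refl _) (Iso.refl _)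
      (by simp) (by simp [hsnd]) (by simp) (by simp), trivial⟩
  · have := EtInvariance.mono_of_thick hj
    have h : Representable (f ≫ j) := w ▸ MorphismProperty.comp_mem _ _ _ hi.1 hf'
    exact (repWith_of_comp_mono (m := j) (P := ⊤) ⟨h, fun _ _ _ _ _ _ => trivial⟩).1

theorem isAffineMor_iff_of_thick (hX' : IsAlgSpace X') (hY' : IsAlgSpace Y') (hi : IsThickMor i) (hj : IsThickMor j)
    (w : i ≫ f' = f ≫ j) : IsAffineMor f ↔ IsAffineMor f' := by
  refine ⟨fun hf T hT ξ => ?_, fun hf' => ?_⟩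
  · obtain ⟨hr, hfa⟩ := (isAffineMor_iff_repWith f).1 hf
    obtain ⟨T₀, W, y, v, z, l, k, hv, sqW, hk, -⟩ := exists_thick_baseChange hi hj w hr ξ
    have : IsClosedImmersion v.left := hv.1
    have : IsAffine T₀.left := isAffine_of_isAffineHom v.left
    have : IsAffineHom l.left := hfa y z l sqW
    have : IsAffine W.left := isAffine_of_isAffineHom l.left
    have sq := IsPullback.of_hasPullback f' ξ
    have hP := isAlgSpace_of_isPullback_space hY' hX' (IsAlgSpace.yon_obj T) sq
    obtain ⟨W', hW', ⟨θ⟩⟩ := exists_affine_of_thick' hP hk W (Iso.refl _)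
    obtain ⟨snd, hsnd⟩ := exists_map_eq (θ.hom ≫ pullback.snd f' ξ)
    exact ⟨W', snd, θ.hom ≫ pullback.fst f' ξ, sq.of_iso θ.symm (Iso.refl _) (Iso.refl _) (Iso.refl _)
      (by simp) (by simp [hsnd]) (by simp) (by simp), hW'⟩
  · have := EtInvariance.mono_of_thick hj
    refine (isAffineMor_iff_repWith f).2 (repWith_of_comp_mono (m := j) ?_)
    rw [← w]
    exact repWith_comp (repWith_mono (fun _ _ r hr => by
      have : IsClosedImmersion r := hr.1
      infer_instance) hi) ((isAffineMor_iff_repWith f').1 hf')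

theorem isIntegralMor_iff_of_thick (hX' : IsAlgSpace X') (hY' : IsAlgSpace Y') (hi : IsThickMor i)
    (hj : IsThickMor j) (w : i ≫ f' = f ≫ j) : IsIntegralMor f ↔ IsIntegralMor f' := by
  refine ⟨fun hf T hT ξ => ?_, fun hf' => ?_⟩
  · obtain ⟨hr, hfi⟩ := (isIntegralMor_iff_repWith f).1 hf
    obtain ⟨T₀, W, y, v, z, l, k, hv, sqW, hk, hks⟩ := exists_thick_baseChange hi hj w hr ξ
    have : IsClosedImmersion v.left := hv.1
    have : IsAffine T₀.left := isAffine_of_isAffineHom v.left
    have : IsIntegralHom l.left := hfi y z l sqW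
    have : IsAffine W.left := isAffine_of_isAffineHom l.left
    have sq := IsPullback.of_hasPullback f' ξ
    have hP := isAlgSpace_of_isPullback_space hY' hX' (IsAlgSpace.yon_obj T) sq
    obtain ⟨W', hW', ⟨θ⟩⟩ := exists_affine_of_thick' hP hk W (Iso.refl _)
    obtain ⟨snd, hsnd⟩ := exists_map_eq (θ.hom ≫ pullback.snd f' ξ)
    obtain ⟨m, hm⟩ := exists_map_eq (k ≫ θ.inv)
    have hmt : thick m.left := (repWith_yon_iff m).1 (hm ▸ (repWith_comp_iso_iff _ θ.inv).2 hk)
    have hms : m ≫ snd = l ≫ v := (yon S).map_injective (by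
      rw [Functor.map_comp, hm, hsnd, Category.assoc, Iso.inv_hom_id_assoc, hks])
    have : Surjective m.left := hmt.2
    have : UniversallyClosed (m.left ≫ snd.left) := by
      rw [← Over.comp_left, hms, Over.comp_left]
      infer_instance
    have : UniversallyClosed snd.left := .of_comp_surjective m.left snd.left
    exact ⟨W', snd, θ.hom ≫ pullback.fst f' ξ, sq.of_iso θ.symm (Iso.refl _) (Iso.refl _) (Iso.refl _)
      (by simp) (by simp [hsnd]) (by simp) (by simp), hW',
      IsIntegralHom.iff_universallyClosed_and_isAffineHom.2 ⟨inferInstance, inferInstance⟩⟩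
  · have := EtInvariance.mono_of_thick hj
    refine (isIntegralMor_iff_repWith f).2 (repWith_of_comp_mono (m := j) ?_)
    rw [← w]
    exact repWith_comp (repWith_mono (fun _ _ r hr => by
      have : IsClosedImmersion r := hr.1
      infer_instance) hi) ((isIntegralMor_iff_repWith f').1 hf')

end Groth.Agent.SpThick
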