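import Groth.Agent.SpThick.SqZero
import Groth.Agent.SchImg.QcImage
import Groth.Agent.BlowUpLib.Cartier

/-!
# Closed subspaces containing a thickening
-/

set_option autoImplicit false

universe u

open CategoryTheory CategoryTheory.Limits AlgebraicGeometry

set_option backward.isDefEq.respectTransparency false

namespace Groth.Agent.SpThick

open _root_.AlgSp Groth.Agent.AlgSpLib

variable {S : Scheme.{u}} {X X' Z : Sp S}

theorem isPullback_of_mono {iZ : Z ⟶ X'} [Mono iZ] {i : X ⟶ X'} {f : X ⟶ Z} (hf : f ≫ iZ = i) :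
    IsPullback (𝟙 X) f i iZ :=
  isPullback_of_points (by rw [Category.id_comp, hf]) fun T a b e =>
    ⟨a, ⟨Category.comp_id _, (cancel_mono iZ).1 (by rw [Category.assoc, hf]; exact e)⟩,
      fun c hc => by simpa using hc.1⟩

/-- a closed subspace containing a thickening is a thickening -/
theorem thick_of_factor {iZ : Z ⟶ X'} (hiZ : RepWith @IsClosedImmersion iZ) {i : X ⟶ X'} (hi : IsThickMor i)
    {f : X ⟶ Z} (hf : f ≫ iZ = i) : IsThickMor iZ := by
  refine repWith_of_exists fun T ξ => ?_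
  obtain ⟨W, z, v, sq, hv⟩ := exists_repWith hiZ ξ
  obtain ⟨W₀, z₀, v₀, sq₀, hv₀⟩ := exists_repWith hi ξ
  refine ⟨W, z, v, sq, hv, ?_⟩
  obtain ⟨m, hm⟩ := exists_map_eq (sq.lift (z₀ ≫ f) ((yon S).map v₀) (by rw [Category.assoc, hf, sq₀.w]))
  have hmv : m ≫ v = v₀ := (yon S).map_injective (by rw [Functor.map_comp, hm, sq.lift_snd])
  have : Surjective (m.left ≫ v.left) := by rw [← Over.comp_left, hmv]; exact hv₀.2
  exact Surjective.of_comp m.left v.left

/-- the kernel of a represented pullback is the pulled back ideal -/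
theorem isPullIdeal_ker {i : Z ⟶ X'} {U W : Over S} {φ : (yon S).obj U ⟶ X'} {z : (yon S).obj W ⟶ Z}
    {v : W ⟶ U} [IsClosedImmersion v.left] (sq : IsPullback z ((yon S).map v) i φ) :
    SchImg.IsPullIdeal i φ v.left.ker := fun T α => by
  refine ⟨fun ⟨l, hl⟩ => ?_, fun h => ?_⟩
  · obtain ⟨m, hm⟩ := exists_map_eq (sq.lift l ((yon S).map α) hl)
    have hmv : m ≫ v = α := (yon S).map_injective (by rw [Functor.map_comp, hm, sq.lift_snd])
    rw [SchImg.comap_eq_bot_iff, ← show m.left ≫ v.left = α.left from congrArg (fun q => q.left) hmv]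
    exact Scheme.Hom.le_ker_comp _ _
  · rw [SchImg.comap_eq_bot_iff] at h
    let m : T ⟶ W := Over.homMk (IsClosedImmersion.lift v.left α.left h) (by
      rw [← Over.w v, IsClosedImmersion.lift_fac_assoc, Over.w α])
    refine ⟨(yon S).map m ≫ z, ?_⟩
    rw [Category.assoc, sq.w, ← Functor.map_comp_assoc,
      show m ≫ v = α from Over.OverMorphism.ext (IsClosedImmersion.lift_fac _ _ _)]

/-- kernels on affine schemes -/
theorem ideal_ker_top {U V : Scheme.{u}} [IsAffine V] (f : U ⟶ V) [QuasiCompact f] :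
    f.ker.ideal ⟨⊤, isAffineOpen_top V⟩ = RingHom.ker f.appTop.hom :=
  f.ker_apply _

/-- a closed subspace with zero ideal is everything -/
theorem isIso_of_bot {iZ : Z ⟶ X'} (hiZ : RepWith @IsClosedImmersion iZ) {U : Over S}
    {π : (yon S).obj U ⟶ X'} (hπe : RepWith @Etale π) (hπs : RepWith @Surjective π)
    (h : SchImg.IsPullIdeal iZ π ⊥) : IsIso iZ := by
  have := SchImg.mono_of_closed hiZ
  have : Sheaf.IsLocallySurjective π := isLocallySurjective_of_atlas hπe hπs
  have : Epi π := (Sheaf.isLocallySurjective_iff_epi' _ π).1 ‹_›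
  obtain ⟨l, hl⟩ := (h (𝟙 U)).2 (Scheme.IdealSheafData.comap_bot _)
  rw [(yon S).map_id, Category.id_comp] at hl
  have : Epi iZ := epi_of_epi_fac hl
  exact isIso_of_mono_of_epi _

set_option maxHeartbeats 1000000 in
/-- a nilpotent thickening of an affine scheme by an algebraic space is affine -/
theorem exists_affine_of_nilpotent (hS : IsTerminal S) (hX' : IsAlgSpace X') {U : Over S} [IsAffine U.left]
    {π : (yon S).obj U ⟶ X'} (hπe : RepWith @Etale π) (hπs : RepWith @Surjective π) {i : X ⟶ X'}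
    (hi : IsThickMor i) (k : ℕ) :
    ∀ {Z : Sp S} {iZ : Z ⟶ X'} {K : U.left.IdealSheafData}, RepWith @IsClosedImmersion iZ →
      SchImg.IsPullIdeal iZ π K → (∃ f : X ⟶ Z, f ≫ iZ = i) → K ^ (2 ^ k) = ⊥ →
      ∀ (T : Over S) [IsAffine T.left] (_ : (yon S).obj T ≅ Z),
        ∃ T' : Over S, IsAffine T'.left ∧ Nonempty ((yon S).obj T' ≅ X') := by
  induction k with
  | zero =>
    intro Z iZ K hiZ hK _ hk T _ e
    rw [pow_zero, pow_one] at hk
    subst hk
    have := isIso_of_bot hiZ hπe hπs hK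
    exact ⟨T, inferInstance, ⟨e ≪≫ asIso iZ⟩⟩
  | succ k ih =>
    intro Z iZ K hiZ hK ⟨f, hf⟩ hk T _ e
    obtain ⟨R, p₁, p₂, sqR⟩ := exists_pullback hX'.diag π π
    have hinv : (K * K).comap p₁.left = (K * K).comap p₂.left := by
      have : Etale p₁.left := (repWith_yon_iff p₁).1 (repWith_baseChange sqR.flip hπe)
      rw [BlowUpLib.comap_mul, BlowUpLib.comap_mul, hK.invariant sqR]
    obtain ⟨Z₂, i₂, hZ₂, hi₂, hK₂⟩ := SchImg.exists_closedSub hX' hπe hπs sqR (K * K) hinv
    have := SchImg.mono_of_closed hi₂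
    have hle : K * K ≤ K := mul_le_of_le_one_left' (by rw [Scheme.IdealSheafData.one_eq_top]; exact le_top)
    have hZ : IsAlgSpace Z := SchImg.isAlgSpace_of_closed hX' hiZ
    obtain ⟨g, hg⟩ := SchImg.exists_factor_of_le hi₂ hZ hX' hπe hπs hK₂ (hle.trans hK.le_kerIdeal_self)
    have hth : IsThickMor g := repWith_baseChange (isPullback_of_mono hg) (thick_of_factor hiZ hi hf)
    -- the chart of the bigger subspace
    obtain ⟨W₂, z₂, v₂, sq₂, hv₂⟩ := exists_repWith hi₂ π
    obtain ⟨W, z, w, sqW, hw⟩ := exists_repWith hth z₂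
    have : IsClosedImmersion v₂.left := hv₂
    have : IsClosedImmersion w.left := hw.1
    have : IsAffine W₂.left := isAffine_of_isAffineHom v₂.left
    have h1 : (K * K).comap v₂.left = ⊥ := by
      rw [SchImg.comap_eq_bot_iff, ← hK₂.unique (isPullIdeal_ker sq₂)]
    have h2 : w.left.ker = K.comap v₂.left := by
      refine (isPullIdeal_ker sqW).unique (SchImg.IsPullIdeal.of_isPullback (isPullback_of_mono hg) ?_)
      rw [sq₂.w]
      exact hK.comap v₂
    have hsq : RingHom.ker w.left.appTop.hom * RingHom.ker w.left.appTop.hom = ⊥ := by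
      have := congrArg (fun I : W₂.left.IdealSheafData => I.ideal ⟨⊤, isAffineOpen_top _⟩) h1
      simp only [BlowUpLib.comap_mul, ← h2, Scheme.IdealSheafData.ideal_mul,
        Scheme.IdealSheafData.ideal_bot, Pi.mul_apply, Pi.bot_apply, ideal_ker_top] at this
      exact this
    obtain ⟨T₂, hT₂, ⟨e₂⟩⟩ := exists_affine_of_sqZero hS hZ₂ hth e (repWith_baseChange sq₂.flip hπe)
      (repWith_baseChange sq₂.flip hπs) sqW hsq
    exact ih hi₂ hK₂ ⟨f ≫ g, by rw [Category.assoc, hg, hf]⟩
      (by rw [← pow_two, ← pow_mul, ← pow_succ']; exact hk) T₂ e₂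

end Groth.Agent.SpThick
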