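import Groth.Agent.SpThick.Closed
import Groth.Agent.SpDesc.AffStage
import Groth.Agent.AlgSpLib.QSChart

/-!
# A thickening of an affine scheme by an algebraic space is affine
-/

set_option autoImplicit false

universe u

open CategoryTheory CategoryTheory.Limits AlgebraicGeometry

set_option backward.isDefEq.respectTransparency false

namespace Groth.Agent.SpThick

open _root_.AlgSp Groth.Agent.AlgSpLib

set_option maxHeartbeats 4000000 in
theorem exists_affine_of_thick {S : Scheme.{u}} (hS : IsTerminal S) {X X' : Sp S} (hX' : IsAlgSpace X')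
    {i : X ⟶ X'} (hi : IsThickMor i) (T : Over S) [IsAffine T.left] (e : (yon S).obj T ≅ X) :
    ∃ T' : Over S, IsAffine T'.left ∧ Nonempty ((yon S).obj T' ≅ X') := by
  have : IsAffine S := IsAffine.of_isIso (hS.uniqueUpToIso specULiftZIsTerminal).hom
  have hic : RepWith @IsClosedImmersion i := repWith_mono (fun _ _ _ h => h.1) hi
  have his : RepWith @Surjective i := repWith_mono (fun _ _ _ h => h.2) hi
  have hX : IsAlgSpace X := SchImg.isAlgSpace_of_closed hX' hic
  have hXq : IsQuasiCompactSp X :=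
    SpDesc.qc_of_iso hX (IsAlgSpace.yon_obj T) e.symm (isQuasiCompactSp_yon T)
  have hX'q : IsQuasiCompactSp X' := isQuasiCompactSp_of_isSurjectiveMor hX' i (isSurjectiveMor_of_repWith his) hXq
  have := compactSpace_of_isQuasiCompactSp hX'q
  obtain ⟨U, π, hU, hπe, hπs⟩ := exists_affine_chart_of_compact hX'
  -- the chart of the thinner space
  obtain ⟨U₀, z, ι, sqU, hιt⟩ := exists_repWith hi π
  have : IsClosedImmersion ι.left := hιt.1
  have : Surjective ι.left := hιt.2
  have : IsAffine U₀.left := isAffine_of_isAffineHom ι.left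
  -- the relation is affine
  obtain ⟨R', p₁, p₂, sqR'⟩ := exists_pullback hX'.diag π π
  obtain ⟨R₀, a, jR, sqR₀⟩ := exists_pullback (IsAlgSpace.yon_obj U).diag ((yon S).map ι) ((yon S).map p₁)
  have hR' : IsAffine R'.left := by
    obtain ⟨b, hb⟩ := exists_map_eq (sqU.lift ((yon S).map a ≫ z) ((yon S).map jR ≫ (yon S).map p₂) (by
      rw [Category.assoc, sqU.w, reassoc_of% sqR₀.w, sqR'.w, Category.assoc]))
    have h1 : IsPullback ((yon S).map a) ((yon S).map b) z z := by
      refine IsPullback.of_bot ?_ (by rw [hb, sqU.lift_fst]) sqU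
      rw [hb, sqU.lift_snd, sqU.w]
      exact sqR₀.paste_vert sqR'
    obtain ⟨h, hh⟩ := exists_map_eq (z ≫ e.inv)
    have h2 : IsPullback ((yon S).map a) ((yon S).map b) ((yon S).map h) ((yon S).map h) :=
      h1.of_iso (Iso.refl _) (Iso.refl _) (Iso.refl _) e.symm (by simp) (by simp) (by simp [hh]) (by simp [hh])
    have : IsAffine R₀.left := IsAffine.of_isIso (isPullback_yon_iff.1 h2).isoPullback.hom
    have sq' : IsPullback a.left jR.left ι.left p₁.left := isPullback_yon_iff.1 sqR₀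
    have : IsClosedImmersion jR.left := MorphismProperty.of_isPullback (P := @IsClosedImmersion) sq' ‹_›
    have : Surjective jR.left := MorphismProperty.of_isPullback (P := @Surjective) sq' ‹_›
    exact NilAffine.isAffine_of_surjective jR.left
  have hX's : IsQuasiSeparatedSp X' := isQuasiSeparatedSp_of_chart hX' hπe hπs sqR'
  -- the ideal
  obtain ⟨J, hJ⟩ := SchImg.exists_pullIdeal hic π
  have hJι : J = ι.left.ker := hJ.unique (isPullIdeal_ker sqU)
  let J₀ : Ideal Γ(U.left, ⊤) := RingHom.ker ι.left.appTop.hom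
  have hJ₀ : J.ideal ⟨⊤, isAffineOpen_top U.left⟩ = J₀ := by rw [hJι]; exact ideal_ker_top _
  have hnil : J₀ ≤ nilradical Γ(U.left, ⊤) := fun x hx => by
    rw [mem_nilradical, U.left.isNilpotent_iff_basicOpen_eq_bot, eq_bot_iff]
    rintro y hy
    obtain ⟨u, rfl⟩ := ι.left.surjective y
    have hu : u ∈ ι.left ⁻¹ᵁ U.left.basicOpen x := hy
    rw [Scheme.preimage_basicOpen_top, show ι.left.appTop x = 0 from hx, Scheme.basicOpen_zero] at hu
    exact hu
  -- the invariant ideal attached to a finitely generated ideal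
  let Idx := {I : Ideal Γ(U.left, ⊤) // I.FG ∧ I ≤ J₀}
  let V : Idx → Over S := fun I => Over.mk ((Scheme.IdealSheafData.ofIdealTop I.1).subschemeι ≫ U.hom)
  let j : ∀ I, V I ⟶ U := fun I => Over.homMk (Scheme.IdealSheafData.ofIdealTop I.1).subschemeι rfl
  have hVc : ∀ I, CompactSpace ↥(V I).left := fun I => by
    have : IsClosedImmersion (j I).left := inferInstanceAs (IsClosedImmersion (Scheme.IdealSheafData.subschemeι _))
    have : IsAffine (V I).left := isAffine_of_isAffineHom (j I).left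
    infer_instance
  let fV : ∀ I, (yon S).obj (V I) ⟶ X' := fun I => (yon S).map (j I) ≫ π
  have hfV : ∀ I, IsQuasiCompactMor (fV I) := fun I =>
    SpQS.isQuasiCompactMor_of_qc_qs (IsAlgSpace.yon_obj _) hX' _ (have := hVc I; isQuasiCompactSp_yon (V I)) hX's
  let K : Idx → U.left.IdealSheafData := fun I => SchImg.kerIdeal (fV I) π
  have hKI : ∀ I : Idx, K I ≤ Scheme.IdealSheafData.ofIdealTop I.1 := fun I =>
    (SchImg.comap_subschemeι_eq_bot_iff _ _).1 ((SchImg.kills_iff _ π _).2 le_rfl (𝟙 _) (j I) (Category.id_comp _))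
  have hKmono : ∀ {I I' : Idx}, I.1 ≤ I'.1 → K I ≤ K I' := fun {I I'} h => by
    refine (SchImg.kills_iff _ π _).1 fun T' z' α h' => ?_
    obtain ⟨m, hm⟩ := (SchImg.exists_lift_iff (Scheme.IdealSheafData.ofIdealTop I.1) (j I').left).2
      ((SchImg.comap_subschemeι_eq_bot_iff _ _).2 (Scheme.IdealSheafData.le_of_isAffine (by simpa using h)))
    let mO : V I' ⟶ V I := Over.homMk m (by
      show m ≫ _ ≫ U.hom = _
      rw [reassoc_of% hm]; rfl)
    refine (SchImg.kills_iff _ π _).2 le_rfl (z' ≫ (yon S).map mO) α ?_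
    rw [Category.assoc, ← h']
    congr 1
    show (yon S).map mO ≫ (yon S).map (j I) ≫ π = _
    rw [← Functor.map_comp_assoc, show mO ≫ j I = j I' from Over.OverMorphism.ext hm]
  have hKJ : ∀ I : Idx, K I ≤ J := fun I => (hKI I).trans (Scheme.IdealSheafData.le_of_isAffine (by
    rw [hJ₀]; simpa using I.2.2))
  have hcov : ∀ x ∈ J₀, ∃ I : Idx, x ∈ (K I).ideal ⟨⊤, isAffineOpen_top U.left⟩ := fun x hx => by
    have e1 := congrArg (fun L : R'.left.IdealSheafData => L.ideal ⟨⊤, isAffineOpen_top _⟩) (hJ.invariant sqR')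
    simp only [FpqcDescent.ideal_comap_of_isAffine, hJ₀] at e1
    have hx' : p₂.left.appTop.hom x ∈ Ideal.span (p₁.left.appTop.hom '' (J₀ : Set Γ(U.left, ⊤))) := by
      show p₂.left.appTop.hom x ∈ J₀.map p₁.left.appTop.hom
      rw [e1]
      exact Ideal.mem_map_of_mem _ hx
    obtain ⟨s, hs, hs'⟩ := Submodule.mem_span_finite_of_mem_span hx'
    classical
    obtain ⟨t, ht, rfl⟩ := Finset.subset_set_image_iff.1 hs
    let I : Idx := ⟨Ideal.span (t : Set Γ(U.left, ⊤)), ⟨t, rfl⟩, Ideal.span_le.2 ht⟩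
    have hI : p₂.left.appTop.hom x ∈ I.1.map p₁.left.appTop.hom := by
      rw [Finset.coe_image] at hs'
      rwa [Ideal.map_span]
    let L := Scheme.IdealSheafData.ofIdealTop (X := U.left) (Ideal.span {x})
    have hL : L.comap p₂.left ≤ (Scheme.IdealSheafData.ofIdealTop (X := U.left) I.1).comap p₁.left := by
      refine Scheme.IdealSheafData.le_of_isAffine ?_
      rw [FpqcDescent.ideal_comap_of_isAffine, FpqcDescent.ideal_comap_of_isAffine]
      simpa [L, Ideal.map_span, Ideal.span_le] using hI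
    have hLK : L ≤ K I := (SchImg.kills_iff _ π _).1 fun T' z' α h' => by
      obtain ⟨w', rfl⟩ := exists_map_eq z'
      obtain ⟨ρ, hρ⟩ := exists_map_eq (sqR'.lift ((yon S).map (w' ≫ j I)) ((yon S).map α) (by
        rw [Functor.map_comp, Category.assoc]; exact h'))
      have hρ₁ : ρ ≫ p₁ = w' ≫ j I := (yon S).map_injective (by rw [Functor.map_comp, hρ, sqR'.lift_fst])
      have hρ₂ : ρ ≫ p₂ = α := (yon S).map_injective (by rw [Functor.map_comp, hρ, sqR'.lift_snd])
      rw [← hρ₂, Over.comp_left, Scheme.IdealSheafData.comap_comp]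
      refine le_bot_iff.1 ((Scheme.IdealSheafData.comap_mono ρ.left hL).trans (le_of_eq ?_))
      show ((Scheme.IdealSheafData.ofIdealTop I.1).comap p₁.left).comap ρ.left = ⊥
      rw [← Scheme.IdealSheafData.comap_comp, ← Over.comp_left, hρ₁, Over.comp_left,
        Scheme.IdealSheafData.comap_comp,
        show (Scheme.IdealSheafData.ofIdealTop I.1).comap (j I).left = ⊥ from
          (SchImg.comap_subschemeι_eq_bot_iff _ _).2 le_rfl, Scheme.IdealSheafData.comap_bot]
    exact ⟨I, hLK _ (by simpa [L] using Ideal.mem_span_singleton_self x)⟩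
  -- the stages
  have hst : ∀ I : Idx, ∃ (Z : Sp S) (iZ : Z ⟶ X'), IsAlgSpace Z ∧ RepWith @IsClosedImmersion iZ ∧
      SchImg.IsPullIdeal iZ π (K I) := fun I =>
    SchImg.exists_closedSub hX' hπe hπs sqR' (K I)
      (SchImg.kerIdeal_invariant (IsAlgSpace.yon_obj _) hX' (hfV I) hπe sqR')
  choose Zs iZ hZa hiZ hiK using hst
  have hmono : ∀ I, Mono (iZ I) := fun I => SchImg.mono_of_closed (hiZ I)
  have hle : ∀ {a b : Idxᵒᵈ} (_ : a ⟶ b),
      ∃ f : Zs (OrderDual.ofDual a) ⟶ Zs (OrderDual.ofDual b), f ≫ iZ _ = iZ _ := fun {a b} φ =>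
    SchImg.exists_factor_of_le (hiZ _) (hZa _) hX' hπe hπs (hiK _)
      ((hKmono (OrderDual.ofDual_le_ofDual.2 (leOfHom φ))).trans (hiK _).le_kerIdeal_self)
  choose mp hmp using @hle
  let D : Idxᵒᵈ ⥤ Sp S :=
    { obj := fun a => Zs (OrderDual.ofDual a)
      map := fun φ => mp φ
      map_id := fun a => (cancel_mono (iZ _)).1 (by rw [hmp, Category.id_comp])
      map_comp := fun φ ψ => (cancel_mono (iZ _)).1 (by rw [hmp, Category.assoc, hmp, hmp]) }
  have hD : ∀ {a b : Idxᵒᵈ} (φ : a ⟶ b), D.map φ ≫ iZ (OrderDual.ofDual b) = iZ (OrderDual.ofDual a) := @hmp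
  have hf : ∀ I : Idx, ∃ f : X ⟶ Zs I, f ≫ iZ I = i := fun I =>
    SchImg.exists_factor_of_le (hiZ I) hX hX' hπe hπs (hiK I) ((hKJ I).trans hJ.le_kerIdeal_self)
  choose f hf using hf
  let c : Cone D :=
    { pt := X
      π := { app := fun a => f (OrderDual.ofDual a)
             naturality := fun a b φ => (cancel_mono (iZ _)).1 (by
              show (𝟙 X ≫ f _) ≫ _ = (f _ ≫ D.map φ) ≫ _
              rw [Category.id_comp, hf, Category.assoc, hD, hf]) } }
  have hmi : Mono i := SchImg.mono_of_closed hic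
  let a₀ : Idxᵒᵈ := OrderDual.toDual ⟨⊥, Submodule.fg_bot, bot_le⟩
  have : Nonempty Idxᵒᵈ := ⟨a₀⟩
  have : IsCodirectedOrder Idxᵒᵈ := ⟨fun a b =>
    ⟨OrderDual.toDual ⟨(OrderDual.ofDual a).1 ⊔ (OrderDual.ofDual b).1, Submodule.FG.sup (OrderDual.ofDual a).2.1
      (OrderDual.ofDual b).2.1, sup_le (OrderDual.ofDual a).2.2 (OrderDual.ofDual b).2.2⟩,
      (le_sup_left (b := (OrderDual.ofDual b).1) :), (le_sup_right (a := (OrderDual.ofDual a).1) :)⟩⟩
  have hlift : ∀ s : Cone D, ∃ l : s.pt ⟶ X, l ≫ i = s.π.app a₀ ≫ iZ (OrderDual.ofDual a₀) := fun s => by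
    have hconst : ∀ a, s.π.app a ≫ iZ (OrderDual.ofDual a) = s.π.app a₀ ≫ iZ (OrderDual.ofDual a₀) := fun a => by
      have : ∀ (c d : Idxᵒᵈ) (φ : c ⟶ d), s.π.app d ≫ iZ (OrderDual.ofDual d) =
          s.π.app c ≫ iZ (OrderDual.ofDual c) := fun c d φ => by rw [← s.w φ, Category.assoc, hD]
      rw [this (IsCofiltered.min a a₀) a (IsCofiltered.minToLeft a a₀),
        this (IsCofiltered.min a a₀) a₀ (IsCofiltered.minToRight a a₀)]
    refine SpQS.exists_lift_mono _ i fun T' y => ?_
    refine SchImg.exists_factor_of_le hic (IsAlgSpace.yon_obj T') hX' hπe hπs hJ ?_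
    refine (SchImg.kills_iff _ π _).1 fun T'' w' α h' => ?_
    rw [SchImg.comap_eq_bot_iff]
    refine Scheme.IdealSheafData.le_of_isAffine fun x hx => ?_
    rw [hJ₀] at hx
    obtain ⟨I, hI⟩ := hcov x hx
    refine ((SchImg.comap_eq_bot_iff _ _).1
      ((hiK I α).1 ⟨w' ≫ y ≫ s.π.app (OrderDual.toDual I), ?_⟩)) _ hI
    rw [Category.assoc, Category.assoc]
    exact (congrArg (fun k => w' ≫ y ≫ k) (hconst (OrderDual.toDual I))).trans h'
  choose l hl using hlift
  have hc : IsLimit c :=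
    { lift := l
      fac := fun s a => (cancel_mono (iZ (OrderDual.ofDual a))).1 (by
        show (l s ≫ f _) ≫ _ = _
        rw [Category.assoc, hf, hl]
        rw [← s.w (IsCofiltered.minToLeft a a₀), ← s.w (IsCofiltered.minToRight a a₀), Category.assoc,
          Category.assoc, hD, hD])
      uniq := fun s m hm => (cancel_mono i).1 (by
        rw [hl, ← hm a₀]
        show _ = (m ≫ f _) ≫ _
        rw [Category.assoc, hf]) }
  have hth : ∀ I, IsThickMor (iZ I) := fun I => thick_of_factor (hiZ I) hi (hf I)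
  have hDq : IsQuasiCompactSp (D.obj a₀) := by
    refine isQuasiCompactSp_of_isSurjectiveMor (hZa _) (f _) (isSurjectiveMor_of_repWith ?_) hXq
    exact repWith_mono (fun _ _ _ h => h.2) (repWith_baseChange (isPullback_of_mono (hf _)) hi)
  obtain ⟨a, ha⟩ := SpDesc.exists_affine_stage D (fun a => hZa _)
    (fun a b φ => (isAffineMor_iff_repWith _).2 (repWith_mono (fun _ _ r hr => by
      have : IsClosedImmersion r := hr
      infer_instance) (repWith_of_comp_mono (m := iZ (OrderDual.ofDual b)) (by rw [hD]; exact hiZ _))))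
    c hc a₀ hDq
    (fun a => isQuasiSeparatedSp_of_mor (ValLib.isQuasiSeparatedMor_of_separated _
      (UnivInjMor.isSeparatedMor_of_mono (iZ (OrderDual.ofDual a)))) hX's) e
  obtain ⟨T₁, hT₁, ⟨e₁⟩⟩ := ha a (𝟙 a)
  -- the ideal of an affine stage is nilpotent
  obtain ⟨n, hn⟩ := (OrderDual.ofDual a).2.1.isNilpotent_iff_le_nilradical.2
    ((OrderDual.ofDual a).2.2.trans hnil)
  refine exists_affine_of_nilpotent hS hX' hπe hπs hi n (hiZ _) (hiK _) ⟨_, hf _⟩ ?_ T₁ e₁
  refine le_bot_iff.1 (Scheme.IdealSheafData.le_of_isAffine ?_)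
  have h1 : ((OrderDual.ofDual a).1) ^ (2 ^ n) = ⊥ :=
    le_bot_iff.1 ((Ideal.pow_le_pow_right Nat.lt_two_pow_self.le).trans hn.le)
  rw [Scheme.IdealSheafData.ideal_pow, Scheme.IdealSheafData.ideal_bot, Pi.pow_apply, Pi.bot_apply, ← h1]
  exact Ideal.pow_right_mono (by simpa using hKI (OrderDual.ofDual a) ⟨⊤, isAffineOpen_top _⟩) _

end Groth.Agent.SpThick
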