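import Mathlib

/-!
# Lifting invariant elements along a square-zero thickening of an étale presentation
-/

set_option autoImplicit false

universe u

open TensorProduct

namespace Groth.Agent.SpThick

variable {A B B' C' D' : Type u} [CommRing A] [CommRing B] [CommRing B'] [CommRing C'] [CommRing D'] [Algebra A B]

/-- If the reduced presentation is faithfully flat, the difference of the two pullbacks of a lift of
an invariant element is a coboundary. -/
theorem exists_invariant_lift [Module.FaithfullyFlat A B] (π : B' →+* B) (I : Ideal C') (hI : I * I = ⊥)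
    (s t : B' →+* C') (p q r : C' →+* D') (hp : p.Flat)
    (hqt : ∀ b, q (t b) = p (t b)) (hqs : ∀ b, q (s b) = r (s b)) (hrt : ∀ b, r (t b) = p (s b))
    (htI : ∀ j, π j = 0 → t j ∈ I) (hsI : ∀ j, π j = 0 → s j ∈ I) (ψ : A →+* C' ⧸ I)
    (hψ : ∀ a, ∃ b, π b = algebraMap A B a ∧ Ideal.Quotient.mk I (t b) = ψ a ∧ Ideal.Quotient.mk I (s b) = ψ a)
    (hgen : ∀ x ∈ I, x ∈ AddSubmonoid.closure {y | ∃ j b, π j = 0 ∧ y = t j * s b})
    (hρ : letI := ψ.toAlgebra
      ∃ ρ : D' →+* (C' ⧸ I) ⊗[A] B, (∀ c, ρ (p c) = Ideal.Quotient.mk I c ⊗ₜ[A] 1) ∧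
        ∀ b, ρ (r (s b)) = 1 ⊗ₜ[A] π b)
    (a : A) : ∃ b, π b = algebraMap A B a ∧ t b = s b := by
  let := ψ.toAlgebra
  obtain ⟨ρ, hρp, hρr⟩ := hρ
  choose lift hlift hliftt hlifts using hψ
  -- the module structures on `I`
  have htors : Module.IsTorsionBySet C' I (I : Set C') := fun x c => Subtype.ext (by
    have : (c : C') * x ∈ I * I := Ideal.mul_mem_mul c.2 x.2
    rw [hI, Ideal.mem_bot] at this
    exact this)
  let : Module (C' ⧸ I) I := htors.module
  have hmk : ∀ (c : C') (x : I), Ideal.Quotient.mk I c • x = c • x := fun c x => rfl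
  let : Module A I := Module.compHom I ψ
  have hA : ∀ (a : A) (x : I), a • x = ψ a • x := fun a x => rfl
  have : IsScalarTower A (C' ⧸ I) I := ⟨fun a c x => by
    show (algebraMap A (C' ⧸ I) a * c) • x = ψ a • c • x
    rw [mul_smul]
    rfl⟩
  have hkill : ∀ {x y : C'}, x ∈ I → y ∈ I → x * y = 0 := fun hx hy => by
    have := Ideal.mul_mem_mul hx hy
    rwa [hI, Ideal.mem_bot] at this
  let δ : {j : B' // π j = 0} → I := fun j => ⟨t j - s j, sub_mem (htI _ j.2) (hsI _ j.2)⟩
  let N : Submodule A I :=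
    { carrier := Set.range δ
      zero_mem' := ⟨⟨0, map_zero π⟩, Subtype.ext (by simp [δ])⟩
      add_mem' := by
        rintro _ _ ⟨x, rfl⟩ ⟨y, rfl⟩
        exact ⟨⟨x.1 + y.1, by rw [map_add, x.2, y.2, add_zero]⟩, Subtype.ext (by simp [δ]; ring)⟩
      smul_mem' := by
        rintro a _ ⟨x, rfl⟩
        refine ⟨⟨lift a * x.1, by rw [map_mul, x.2, mul_zero]⟩, ?_⟩
        rw [hA, ← hliftt, hmk]
        refine Subtype.ext ?_
        show t (lift a * x.1) - s (lift a * x.1) = t (lift a) * (t x.1 - s x.1)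
        rw [map_mul, map_mul]
        have h : t (lift a) - s (lift a) ∈ I := by
          rw [← Ideal.Quotient.eq, hliftt, hlifts]
        linear_combination hkill h (hsI _ x.2) }
  -- the defect
  let b₀ := lift a
  have hdI : t b₀ - s b₀ ∈ I := by rw [← Ideal.Quotient.eq, hliftt, hlifts]
  let d : I := ⟨t b₀ - s b₀, hdI⟩
  suffices hd : d ∈ N by
    obtain ⟨j, hj⟩ := hd
    have hj' : t j.1 - s j.1 = t b₀ - s b₀ := congrArg Subtype.val hj
    refine ⟨b₀ - j.1, by rw [map_sub, hlift, j.2, sub_zero], ?_⟩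
    rw [map_sub, map_sub]
    linear_combination -hj'
  -- transport along the third point
  let θ : I →+ D' →+ I ⊗[A] B :=
    AddMonoidHom.mk' (fun x => AddMonoidHom.mk'
      (fun w => ((LinearMap.toSpanSingleton (C' ⧸ I) I x).restrictScalars A).rTensor B (ρ w))
      (fun v w => by simp)) (fun x y => by
        refine AddMonoidHom.ext fun w => ?_
        simp only [AddMonoidHom.mk'_apply, AddMonoidHom.add_apply]
        induction ρ w with
        | zero => simp
        | tmul c e => simp [smul_add, add_tmul]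
        | add u v hu hv => simp only [map_add, hu, hv]; abel)
  let : Algebra C' D' := p.toAlgebra
  have hbal : ∀ (c : C') (x : I) (w : D'), θ (c • x) w = θ x (c • w) := fun c x w => by
    show _ = ((LinearMap.toSpanSingleton (C' ⧸ I) I x).restrictScalars A).rTensor B (ρ (p c * w))
    rw [map_mul, hρp]
    show ((LinearMap.toSpanSingleton (C' ⧸ I) I (c • x)).restrictScalars A).rTensor B (ρ w) = _
    induction ρ w with
    | zero => simp
    | tmul u e =>
      simp only [Algebra.TensorProduct.tmul_mul_tmul, one_mul, LinearMap.rTensor_tmul, LinearMap.restrictScalars_apply,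
        LinearMap.toSpanSingleton_apply]
      rw [← hmk, ← mul_smul, mul_comm u]
    | add u v hu hv => simp only [mul_add, map_add, hu, hv]
  let Φ : I ⊗[C'] D' →+ I ⊗[A] B := TensorProduct.liftAddHom θ hbal
  have hΦ : ∀ (x : I) (w : D'), Φ (x ⊗ₜ[C'] w) =
      ((LinearMap.toSpanSingleton (C' ⧸ I) I x).restrictScalars A).rTensor B (ρ w) := fun x w => rfl
  have hΦr : ∀ (x : I) (b : B'), Φ (x ⊗ₜ[C'] r (s b)) = x ⊗ₜ[A] π b := fun x b => by
    rw [hΦ, hρr]; simp
  have hΦ1 : ∀ x : I, Φ (x ⊗ₜ[C'] (1 : D')) = x ⊗ₜ[A] (1 : B) := fun x => by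
    rw [hΦ, map_one, Algebra.TensorProduct.one_def]; simp
  let m : I ⊗[C'] D' →ₗ[C'] D' := (TensorProduct.lid C' D').toLinearMap ∘ₗ (Submodule.subtype I).rTensor D'
  have : Module.Flat C' D' := hp
  have hm : Function.Injective m := (TensorProduct.lid C' D').injective.comp
    (Module.Flat.rTensor_preserves_injective_linearMap _ (Submodule.injective_subtype I))
  have hmt : ∀ (x : I) (w : D'), m (x ⊗ₜ[C'] w) = p x * w := fun x w => rfl
  -- the transported defect lies in the image
  have key : ∀ y ∈ AddSubmonoid.closure {y | ∃ j b, π j = 0 ∧ y = t j * s b}, ∃ e : I ⊗[C'] D',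
      m e = q y - r y ∧ N.mkQ.rTensor B (Φ e) = 0 := fun y hy => by
    induction hy using AddSubmonoid.closure_induction with
    | mem y hy =>
      obtain ⟨j, b, hj, rfl⟩ := hy
      refine ⟨δ ⟨j, hj⟩ ⊗ₜ[C'] r (s b), ?_, ?_⟩
      · rw [hmt]
        show p (t j - s j) * r (s b) = _
        rw [map_sub, map_mul, map_mul, hqt, hqs, hrt]
        ring
      · rw [hΦr, LinearMap.rTensor_tmul, (Submodule.Quotient.mk_eq_zero N).2 ⟨_, rfl⟩ |> fun h =>
          show N.mkQ (δ ⟨j, hj⟩) = 0 from h, zero_tmul]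
    | zero => exact ⟨0, by simp⟩
    | add u v _ _ hu hv =>
      obtain ⟨e₁, h₁, k₁⟩ := hu
      obtain ⟨e₂, h₂, k₂⟩ := hv
      exact ⟨e₁ + e₂, by rw [map_add, h₁, h₂, map_add, map_add]; ring, by rw [map_add, map_add, k₁, k₂, add_zero]⟩
  obtain ⟨e, he, hek⟩ := key d (hgen _ hdI)
  have hde : d ⊗ₜ[C'] (1 : D') = e := hm (by
    rw [hmt, he, mul_one]
    show p (t b₀ - s b₀) = q (t b₀ - s b₀) - r (t b₀ - s b₀)
    simp only [map_sub, hqt, hqs, hrt]
    ring)
  have h1 : N.mkQ d ⊗ₜ[A] (1 : B) = 0 := by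
    rw [← LinearMap.rTensor_tmul, ← hΦ1, hde]
    exact hek
  have h2 : (1 : B) ⊗ₜ[A] N.mkQ d = (1 : B) ⊗ₜ[A] (0 : I ⧸ N) := by
    rw [tmul_zero, ← TensorProduct.comm_tmul A (I ⧸ N) B, h1, map_zero]
  exact (Submodule.Quotient.mk_eq_zero N).1 (Module.FaithfullyFlat.tensorProduct_mk_injective (I ⧸ N) h2)

end Groth.Agent.SpThick
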