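import Groth.Agent.SpThick.Cocycle
import Groth.Agent.LimMore.SepCore
import Groth.Agent.NilAffine.Main

/-!
# Invariant functions lift along square-zero thickenings
-/

set_option autoImplicit false

universe u

open CategoryTheory CategoryTheory.Limits AlgebraicGeometry TensorProduct

set_option backward.isDefEq.respectTransparency false

namespace Groth.Agent.SpThick

/-- the kernel of a base change of a surjection of rings -/
theorem ker_le_map_of_isPushout {P Q R' R : CommRingCat.{u}} {f : P ⟶ Q} {g : P ⟶ R'} {inl : Q ⟶ R} {inr : R' ⟶ R}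
    (h : IsPushout f g inl inr) (hf : Function.Surjective f.hom) (hinr : Function.Surjective inr.hom) :
    RingHom.ker inr.hom ≤ (RingHom.ker f.hom).map g.hom := by
  let K := (RingHom.ker f.hom).map g.hom
  let e : (P ⧸ RingHom.ker f.hom) ≃+* Q := RingHom.quotientKerEquivOfSurjective hf
  let m : Q ⟶ CommRingCat.of (R' ⧸ K) := CommRingCat.ofHom ((Ideal.Quotient.lift (RingHom.ker f.hom)
    ((Ideal.Quotient.mk K).comp g.hom)
    (fun x hx => (Ideal.Quotient.eq_zero_iff_mem).2 (Ideal.mem_map_of_mem _ hx))).comp e.symm.toRingHom)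
  let v := h.desc m (CommRingCat.ofHom (Ideal.Quotient.mk K)) (by
    ext x
    have he : e.symm (f.hom x) = Ideal.Quotient.mk _ x := (RingEquiv.symm_apply_eq e).2 rfl
    simp [m, he])
  intro x hx
  have e : v (inr x) = Ideal.Quotient.mk K x := congr($(h.inr_desc _ _ _).hom x)
  rw [← Ideal.Quotient.eq_zero_iff_mem, ← e, RingHom.mem_ker.1 hx, map_zero]

theorem exists_invariant_section {U U' T R R' : Scheme.{u}} [IsAffine U'] [IsAffine T]
    (ι : U ⟶ U') [IsClosedImmersion ι] [Surjective ι] (hsq : RingHom.ker ι.appTop.hom * RingHom.ker ι.appTop.hom = ⊥)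
    (h : U ⟶ T) [Flat h] [Surjective h] {a b : R ⟶ U} (sqR : IsPullback a b h h)
    {p₁ p₂ : R' ⟶ U'} [Flat p₁] {jR : R ⟶ R'} (sqj : IsPullback jR a p₁ ι) (hb : jR ≫ p₂ = b ≫ ι)
    (q : pullback p₂ p₁ ⟶ R') (hq₁ : q ≫ p₁ = pullback.fst p₂ p₁ ≫ p₁)
    (hq₂ : q ≫ p₂ = pullback.snd p₂ p₁ ≫ p₂) (x : Γ(T, ⊤)) :
    ∃ y : Γ(U', ⊤), ι.appTop y = h.appTop x ∧ p₁.appTop y = p₂.appTop y := by
  have : IsAffine U := isAffine_of_isAffineHom ι
  have : IsAffine R := IsAffine.of_isIso (sqR.isoPullback.hom)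
  have : IsClosedImmersion jR := MorphismProperty.of_isPullback (P := @IsClosedImmersion) sqj.flip ‹_›
  have : Surjective jR := MorphismProperty.of_isPullback (P := @Surjective) sqj.flip ‹_›
  have : IsAffine R' := NilAffine.isAffine_of_surjective jR
  have hι : Function.Surjective ι.appTop.hom := (IsClosedImmersion.isAffine_surjective_of_isAffine ι).2
  have hj : Function.Surjective jR.appTop.hom := (IsClosedImmersion.isAffine_surjective_of_isAffine jR).2
  let I := RingHom.ker jR.appTop.hom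
  let C := Γ(R', ⊤) ⧸ I
  let σ : C ≃+* Γ(R, ⊤) := RingHom.quotientKerEquivOfSurjective hj
  let ψ : Γ(T, ⊤) →+* C := σ.symm.toRingHom.comp (a ≫ h).appTop.hom
  have hσ : ∀ c, σ.symm (jR.appTop c) = Ideal.Quotient.mk I c := fun c => by
    rw [RingEquiv.symm_apply_eq]; rfl
  -- the kernel
  have hpo := isPushout_appTop_of_isPullback sqj
  have hIle : I ≤ (RingHom.ker ι.appTop.hom).map p₁.appTop.hom :=
    ker_le_map_of_isPushout hpo.flip hι hj
  have htI : ∀ j, ι.appTop j = 0 → jR.appTop (p₁.appTop j) = 0 := fun j hj => by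
    rw [← CommRingCat.comp_apply, ← Scheme.Hom.comp_appTop, sqj.w, Scheme.Hom.comp_appTop, CommRingCat.comp_apply, hj,
      map_zero]
  have hsI : ∀ j, ι.appTop j = 0 → jR.appTop (p₂.appTop j) = 0 := fun j hj => by
    rw [← CommRingCat.comp_apply, ← Scheme.Hom.comp_appTop, hb, Scheme.Hom.comp_appTop, CommRingCat.comp_apply, hj,
      map_zero]
  have hI : I * I = ⊥ := by
    refine le_bot_iff.1 (le_trans (Ideal.mul_mono hIle hIle) ?_)
    rw [← Ideal.map_mul, hsq, Ideal.map_bot]
  have hII : ∀ {u v : Γ(R', ⊤)}, u ∈ I → v ∈ I → u * v = 0 := fun hu hv => by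
    have := Ideal.mul_mem_mul hu hv
    rwa [hI, Ideal.mem_bot] at this
  -- generators of the kernel
  let M : AddSubmonoid Γ(R', ⊤) := AddSubmonoid.closure
    {y | ∃ j b, ι.appTop.hom j = 0 ∧ y = p₁.appTop.hom j * p₂.appTop.hom b}
  let W : Subring Γ(R', ⊤) :=
    { carrier := {c | ∀ y ∈ M, c * y ∈ M}
      one_mem' := fun y hy => by rwa [one_mul]
      zero_mem' := fun y hy => by rw [zero_mul]; exact zero_mem M
      mul_mem' := fun {c c'} hc hc' y hy => by rw [mul_assoc]; exact hc _ (hc' y hy)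
      add_mem' := fun {c c'} hc hc' y hy => by rw [add_mul]; exact add_mem (hc y hy) (hc' y hy)
      neg_mem' := fun {c} hc y hy => by
        have hneg : ∀ z ∈ M, -z ∈ M := fun z hz => by
          induction hz using AddSubmonoid.closure_induction with
          | mem z hz =>
            obtain ⟨j, b, hj, rfl⟩ := hz
            exact AddSubmonoid.subset_closure ⟨-j, b, by rw [map_neg, hj, neg_zero], by rw [map_neg, neg_mul]⟩
          | zero => simp
          | add u v _ _ hu hv => rw [neg_add]; exact add_mem hu hv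
        rw [neg_mul]
        exact hneg _ (hc y hy) }
  have hMI : ∀ y ∈ M, y ∈ I := fun y hy => by
    induction hy using AddSubmonoid.closure_induction with
    | mem y hy =>
      obtain ⟨j, b, hj, rfl⟩ := hy
      exact I.mul_mem_right _ (RingHom.mem_ker.2 (htI j hj))
    | zero => exact zero_mem _
    | add u v _ _ hu hv => exact add_mem hu hv
  have hW1 : ∀ u, p₁.appTop.hom u ∈ W := fun u y hy => by
    induction hy using AddSubmonoid.closure_induction with
    | mem y hy =>
      obtain ⟨j, b, hj, rfl⟩ := hy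
      exact AddSubmonoid.subset_closure ⟨u * j, b, by rw [map_mul, hj, mul_zero], by rw [map_mul]; ring⟩
    | zero => rw [mul_zero]; exact zero_mem M
    | add v w _ _ hv hw => rw [mul_add]; exact add_mem hv hw
  have hW2 : ∀ u, p₂.appTop.hom u ∈ W := fun u y hy => by
    induction hy using AddSubmonoid.closure_induction with
    | mem y hy =>
      obtain ⟨j, b, hj, rfl⟩ := hy
      exact AddSubmonoid.subset_closure ⟨j, u * b, hj, by rw [map_mul]; ring⟩
    | zero => rw [mul_zero]; exact zero_mem M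
    | add v w _ _ hv hw => rw [mul_add]; exact add_mem hv hw
  have hWI : ∀ u ∈ I, u ∈ W := fun u hu y hy => by rw [hII hu (hMI y hy)]; exact zero_mem M
  have hW : ∀ c, c ∈ W := fun c => by
    have hgen := LimMore.closure_eq_top_of_isPushout (isPushout_appTop_of_isPullback sqR)
    have hle : Subring.closure (Set.range a.appTop.hom ∪ Set.range b.appTop.hom) ≤ W.map jR.appTop.hom := by
      refine Subring.closure_le.2 ?_
      rintro _ (⟨v, rfl⟩ | ⟨v, rfl⟩) <;> obtain ⟨u, rfl⟩ := hι v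
      · exact ⟨p₁.appTop u, hW1 u, congr($(congrArg Scheme.Hom.appTop sqj.w).hom u)⟩
      · exact ⟨p₂.appTop u, hW2 u, congr($(congrArg Scheme.Hom.appTop hb).hom u)⟩
    obtain ⟨c', hc', e⟩ := hle (hgen.ge (Subring.mem_top (jR.appTop c)))
    have : c - c' ∈ I := RingHom.mem_ker.2 (by rw [map_sub, e, sub_self])
    simpa using W.add_mem hc' (hWI _ this)
  have hgen : ∀ y ∈ I, y ∈ M := fun y hy => by
    have := hIle hy
    rw [Ideal.map, Submodule.mem_span_set'] at this
    obtain ⟨n, f, g, rfl⟩ := this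
    refine sum_mem fun i _ => ?_
    obtain ⟨_, j, hj, hjg⟩ := g i
    rw [smul_eq_mul]
    refine hW (f i) _ ?_
    simp only [← hjg]
    exact AddSubmonoid.subset_closure ⟨j, 1, RingHom.mem_ker.1 hj, by rw [map_one, mul_one]⟩
  -- the third projection
  let := ψ.toAlgebra
  let := h.appTop.hom.toAlgebra
  let D := CommRingCat.of (C ⊗[Γ(T, ⊤)] Γ(U, ⊤))
  let inlD : Γ(R, ⊤) ⟶ D :=
    CommRingCat.ofHom (Algebra.TensorProduct.includeLeftRingHom.comp σ.symm.toRingHom)
  let inrD : Γ(U, ⊤) ⟶ D := CommRingCat.ofHom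
    (Algebra.TensorProduct.includeRight (R := Γ(T, ⊤)) (A := C) (B := Γ(U, ⊤))).toRingHom
  let m : pullback (b ≫ h) h ⟶ R := sqR.lift (pullback.fst _ _ ≫ b) (pullback.snd _ _)
    (by rw [Category.assoc, pullback.condition])
  let n : pullback (b ≫ h) h ⟶ pullback p₂ p₁ := pullback.lift (pullback.fst _ _ ≫ jR) (m ≫ jR) (by
    rw [Category.assoc, hb, Category.assoc, sqj.w, sqR.lift_fst_assoc, Category.assoc])
  let ρ : Γ(pullback p₂ p₁, ⊤) ⟶ D := n.appTop ≫
    (isPushout_appTop_of_isPullback (IsPullback.of_hasPullback (b ≫ h) h)).desc inlD inrD (by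
      ext z
      show σ.symm ((b ≫ h).appTop z) ⊗ₜ[Γ(T, ⊤)] (1 : Γ(U, ⊤)) = (1 : C) ⊗ₜ[Γ(T, ⊤)] h.appTop z
      rw [show (b ≫ h) = a ≫ h from sqR.w.symm]
      show algebraMap Γ(T, ⊤) C z ⊗ₜ[Γ(T, ⊤)] (1 : Γ(U, ⊤)) = (1 : C) ⊗ₜ[Γ(T, ⊤)] algebraMap Γ(T, ⊤) Γ(U, ⊤) z
      rw [Algebra.algebraMap_eq_smul_one, Algebra.algebraMap_eq_smul_one, TensorProduct.smul_tmul])
  have hρ₁ : ∀ c, ρ ((pullback.fst p₂ p₁).appTop c) = Ideal.Quotient.mk I c ⊗ₜ[Γ(T, ⊤)] 1 := fun c => by
    have e : n.appTop ((pullback.fst p₂ p₁).appTop c) = (pullback.fst (b ≫ h) h).appTop (jR.appTop c) :=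
      congr($(congrArg Scheme.Hom.appTop (pullback.lift_fst _ _ _ : n ≫ pullback.fst p₂ p₁ = _)).hom c)
    simp only [ρ, CommRingCat.comp_apply, e, ← hσ]
    exact congr($((isPushout_appTop_of_isPullback (IsPullback.of_hasPullback (b ≫ h) h)).inl_desc inlD inrD _).hom
      (jR.appTop c))
  have hρ₂ : ∀ u, ρ ((pullback.snd p₂ p₁).appTop (p₂.appTop u)) = 1 ⊗ₜ[Γ(T, ⊤)] ι.appTop u := fun u => by
    have e0 : n ≫ pullback.snd p₂ p₁ ≫ p₂ = pullback.snd (b ≫ h) h ≫ ι := by
      rw [pullback.lift_snd_assoc, Category.assoc, hb, sqR.lift_snd_assoc]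
    have e : n.appTop ((pullback.snd p₂ p₁).appTop (p₂.appTop u)) = (pullback.snd (b ≫ h) h).appTop (ι.appTop u) :=
      congr($(congrArg Scheme.Hom.appTop e0).hom u)
    simp only [ρ, CommRingCat.comp_apply, e]
    exact congr($((isPushout_appTop_of_isPullback (IsPullback.of_hasPullback (b ≫ h) h)).inr_desc inlD inrD _).hom
      (ι.appTop u))
  have : Module.FaithfullyFlat Γ(T, ⊤) Γ(U, ⊤) := by
    refine RingHom.faithfullyFlat_algebraMap_iff.1 ?_
    rw [RingHom.FaithfullyFlat.iff_flat_and_comap_surjective]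
    exact ⟨(HasRingHomProperty.iff_of_isAffine (P := @Flat)).1 inferInstance,
      (show Function.Surjective (Spec.map h.appTop) from by
        have e : Spec.map h.appTop = U.isoSpec.inv ≫ h ≫ T.isoSpec.hom := by
          rw [Iso.eq_inv_comp, Scheme.isoSpec_hom_naturality]
        have : Surjective (Spec.map h.appTop) := by rw [e]; infer_instance
        exact (Spec.map h.appTop).surjective)⟩
  have hflat : (pullback.fst p₂ p₁).appTop.hom.Flat :=
    (HasRingHomProperty.iff_of_isAffine (P := @Flat)).1 (MorphismProperty.pullback_fst (P := @Flat) _ _ ‹_›)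
  have hψ : ∀ z, ∃ u, ι.appTop.hom u = h.appTop.hom z ∧ Ideal.Quotient.mk I (p₁.appTop.hom u) = ψ z ∧
      Ideal.Quotient.mk I (p₂.appTop.hom u) = ψ z := fun z => by
    obtain ⟨u, hu⟩ := hι (h.appTop z)
    refine ⟨u, hu, ?_, ?_⟩ <;> rw [← hσ] <;> refine congrArg σ.symm ?_
    · rw [← CommRingCat.comp_apply, ← Scheme.Hom.comp_appTop, sqj.w, Scheme.Hom.comp_appTop, CommRingCat.comp_apply,
        Scheme.Hom.comp_appTop, CommRingCat.comp_apply]
      exact congrArg _ hu
    · rw [← CommRingCat.comp_apply, ← Scheme.Hom.comp_appTop, hb, sqR.w, Scheme.Hom.comp_appTop, CommRingCat.comp_apply,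
        Scheme.Hom.comp_appTop, CommRingCat.comp_apply]
      exact congrArg _ hu
  have := exists_invariant_lift (A := Γ(T, ⊤)) ι.appTop.hom I hI p₂.appTop.hom p₁.appTop.hom
    (pullback.fst p₂ p₁).appTop.hom q.appTop.hom (pullback.snd p₂ p₁).appTop.hom hflat
    (fun u => congr($(congrArg Scheme.Hom.appTop hq₁).hom u))
    (fun u => congr($(congrArg Scheme.Hom.appTop hq₂).hom u))
    (fun u => congr($(congrArg Scheme.Hom.appTop (pullback.condition (f := p₂) (g := p₁)).symm).hom u))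
    htI hsI ψ hψ hgen ⟨ρ.hom, hρ₁, hρ₂⟩ x
  exact this

end Groth.Agent.SpThick
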