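import Groth.Agent.SpThick.Main
import Groth.Agent.EtInvariance.Quotient
import Groth.Agent.EtInvariance.Extend
import Groth.Prelude.Def_AlgSpOX2

/-!
# Topological invariance of the small etale site for thickenings
-/

set_option autoImplicit false

universe u

open CategoryTheory CategoryTheory.Limits AlgebraicGeometry

set_option backward.isDefEq.respectTransparency false

namespace Groth.Agent.SpThick

open _root_.AlgSp Groth.Agent.AlgSpLib

variable {S : Scheme.{u}} {X X' : Sp S} {i : X ⟶ X'}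

theorem existsUnique_extend_et (hX' : IsAlgSpace X') (hi : IsThickMor i) {E E' : EtOver X'}
    (k : EtOver.bcObj hi.1 E ⟶ EtOver.bcObj hi.1 E') :
    ∃! φ : (yon S).obj E.obj.left ⟶ (yon S).obj E'.obj.left, φ ≫ E'.obj.hom = E.obj.hom ∧
      (yon S).map (hi.1.snd E.obj.hom) ≫ φ = (yon S).map k.hom.left ≫ (yon S).map (hi.1.snd E'.obj.hom) := by
  refine EtInvariance.existsUnique_extend (IsAlgSpace.yon_obj _) (IsAlgSpace.yon_obj _) (IsAlgSpace.yon_obj _) hX'
    E.obj.hom E'.obj.hom (isEtaleMor_of_repWith' E'.property) _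
    (EtInvariance.IsUH.of_thick (repWith_baseChange (hi.1.isPullback E.obj.hom) hi)) _ ?_
  have h : (yon S).map k.hom.left ≫ hi.1.fst E'.obj.hom = hi.1.fst E.obj.hom := EtOver.w k
  rw [Category.assoc, ← hi.1.w, reassoc_of% h, hi.1.w]

theorem isEquivalence_bc (hX : IsAlgSpace X) (hX' : IsAlgSpace X') (hi : IsThickMor i) :
    (EtOver.bc hi.1).IsEquivalence where
  faithful := ⟨fun {E E'} g g' e => EtOver.hom_ext _ _ ((yon S).map_injective
    ((existsUnique_extend_et hX' hi (EtOver.bcMap hi.1 g)).unique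
      ⟨EtOver.w g, by rw [← Functor.map_comp, ← Functor.map_comp, EtOver.bcMap_snd]⟩
      ⟨EtOver.w g', by
        rw [show EtOver.bcMap hi.1 g = EtOver.bcMap hi.1 g' from e, ← Functor.map_comp, ← Functor.map_comp,
          EtOver.bcMap_snd]⟩))⟩
  full := ⟨fun {E E'} k => by
    obtain ⟨φ, ⟨h1, h2⟩, -⟩ := existsUnique_extend_et hX' hi k
    obtain ⟨g, rfl⟩ := exists_map_eq φ
    refine ⟨EtOver.homMk g h1, EtOver.hom_ext _ _ (hi.1.hom_ext ?_ ?_)⟩
    · exact (EtOver.map_bcMap_fst hi.1 _).trans (EtOver.w k).symm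
    · refine (EtOver.bcMap_snd hi.1 _).trans ((yon S).map_injective ?_)
      rw [Functor.map_comp, Functor.map_comp]
      exact h2⟩
  essSurj := ⟨fun E₀ => by
    obtain ⟨V', a, c, hV', ha, sq⟩ := EtInvariance.exists_descend hX hX' (IsAlgSpace.yon_obj _) i
      (EtInvariance.IsUH.of_thick hi) E₀.obj.hom (isEtaleMor_of_repWith' E₀.property)
    obtain ⟨W', ⟨θ⟩⟩ := exists_scheme_of_thick hV' (repWith_baseChange sq hi) (Iso.refl _)
    let E : EtOver X' := EtOver.mk (θ.hom ≫ a) (ha θ.hom (repWith_of_isIso θ.hom))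
    have sq' : IsPullback E₀.obj.hom (c ≫ θ.inv) i (θ.hom ≫ a) :=
      sq.of_iso (Iso.refl _) (Iso.refl _) θ.symm (Iso.refl _) (by simp) (by simp) (by simp) (by simp)
    let e := (hi.1.isPullback E.obj.hom).isoIsPullback _ _ sq'
    have he : e.hom ≫ E₀.obj.hom = hi.1.fst E.obj.hom :=
      (hi.1.isPullback E.obj.hom).isoIsPullback_hom_fst _ _ sq'
    let e' := (yon S).preimageIso e
    have w1 : (yon S).map e'.hom ≫ E₀.obj.hom = (EtOver.bcObj hi.1 E).obj.hom := by
      rw [show (yon S).map e'.hom = e.hom from (yon S).map_preimage _]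
      exact he
    exact ⟨E, ⟨{ hom := EtOver.homMk e'.hom w1
                 inv := EtOver.homMk e'.inv (by
                  show (yon S).map e'.inv ≫ (EtOver.bcObj hi.1 E).obj.hom = _
                  rw [← w1, ← Category.assoc, ← Functor.map_comp, e'.inv_hom_id, (yon S).map_id, Category.id_comp])
                 hom_inv_id := EtOver.hom_ext _ _ e'.hom_inv_id
                 inv_hom_id := EtOver.hom_ext _ _ e'.inv_hom_id }⟩⟩⟩

end Groth.Agent.SpThick
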