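import Groth.Agent.SpThick.Lift
import Groth.Agent.EtInvariance.SchemeCase
import Groth.Agent.EtInvariance.ThickDeform
import Groth.Agent.SpDesc.AffStage
import Groth.Agent.SpDesc.Stage

/-!
# A square-zero thickening of an affine scheme by an algebraic space is affine
-/

set_option autoImplicit false

universe u

open CategoryTheory CategoryTheory.Limits AlgebraicGeometry

set_option backward.isDefEq.respectTransparency false

namespace Groth.Agent.SpThick

open _root_.AlgSp Groth.Agent.AlgSpLib

/-- the two pullbacks of functions agree on the relation -/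
theorem exists_thirdProj {S : Scheme.{u}} {X : Sp S} {U R : Over S} {π : (yon S).obj U ⟶ X} {p₁ p₂ : R ⟶ U}
    (sq : IsPullback ((yon S).map p₁) ((yon S).map p₂) π π) :
    ∃ q : pullback p₂.left p₁.left ⟶ R.left, q ≫ p₁.left = pullback.fst p₂.left p₁.left ≫ p₁.left ∧
      q ≫ p₂.left = pullback.snd p₂.left p₁.left ≫ p₂.left := by
  let Q : Over S := Over.mk (pullback.fst p₂.left p₁.left ≫ R.hom)
  let a : Q ⟶ R := Over.homMk (pullback.fst p₂.left p₁.left) rfl
  let b : Q ⟶ R := Over.homMk (pullback.snd p₂.left p₁.left) (by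
    show pullback.snd p₂.left p₁.left ≫ R.hom = pullback.fst p₂.left p₁.left ≫ R.hom
    rw [← Over.w p₁, ← Category.assoc, ← pullback.condition, Category.assoc, Over.w p₂, Over.w p₁])
  have hab : a ≫ p₂ = b ≫ p₁ := Over.OverMorphism.ext pullback.condition
  obtain ⟨q, hq⟩ := exists_map_eq (sq.lift ((yon S).map (a ≫ p₁)) ((yon S).map (b ≫ p₂)) (by
    rw [Functor.map_comp, Functor.map_comp, Category.assoc, sq.w, ← Category.assoc, ← Functor.map_comp, hab,
      Functor.map_comp, Category.assoc, sq.w, Category.assoc]))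
  have h1 : q ≫ p₁ = a ≫ p₁ := (yon S).map_injective (by rw [Functor.map_comp, hq, sq.lift_fst])
  have h2 : q ≫ p₂ = b ≫ p₂ := (yon S).map_injective (by rw [Functor.map_comp, hq, sq.lift_snd])
  exact ⟨q.left, congrArg (fun m : Q ⟶ U => m.left) h1, congrArg (fun m : Q ⟶ U => m.left) h2⟩

set_option maxHeartbeats 2000000 in
theorem exists_affine_of_sqZero {S : Scheme.{u}} (hS : IsTerminal S) {X X' : Sp S} (hX' : IsAlgSpace X')
    {i : X ⟶ X'} (hi : IsThickMor i) {T : Over S} [IsAffine T.left] (e : (yon S).obj T ≅ X)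
    {U' U : Over S} [IsAffine U'.left] {π : (yon S).obj U' ⟶ X'} (hπe : RepWith @Etale π)
    (hπs : RepWith @Surjective π) {z : (yon S).obj U ⟶ X} {ι : U ⟶ U'}
    (sqU : IsPullback z ((yon S).map ι) i π)
    (hsq : RingHom.ker ι.left.appTop.hom * RingHom.ker ι.left.appTop.hom = ⊥) :
    ∃ T' : Over S, IsAffine T'.left ∧ Nonempty ((yon S).obj T' ≅ X') := by
  obtain ⟨hιc, hιs⟩ := hi.2 _ _ _ sqU
  have : IsClosedImmersion ι.left := hιc
  have : Surjective ι.left := hιs
  obtain ⟨h, hh⟩ := exists_map_eq (z ≫ e.inv)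
  have hze : RepWith @Etale z := repWith_baseChange sqU.flip hπe
  have hzs : RepWith @Surjective z := repWith_baseChange sqU.flip hπs
  have : Etale h.left := (repWith_yon_iff h).1 (hh ▸ (repWith_comp_iso_iff _ e.inv).2 hze)
  have : Surjective h.left := (repWith_yon_iff h).1 (hh ▸ (repWith_comp_iso_iff _ e.inv).2 hzs)
  obtain ⟨R', p₁, p₂, sqR'⟩ := exists_pullback hX'.diag π π
  obtain ⟨R, a, b, sqR⟩ := exists_pullback (IsAlgSpace.yon_obj T).diag ((yon S).map h) ((yon S).map h)
  have sqRz : IsPullback ((yon S).map a) ((yon S).map b) z z :=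
    sqR.of_iso (Iso.refl _) (Iso.refl _) (Iso.refl _) e (by simp) (by simp) (by simp [hh]) (by simp [hh])
  have sqRs : IsPullback a.left b.left h.left h.left := isPullback_yon_iff.1 sqR
  have hp₁ : Etale p₁.left := (repWith_yon_iff p₁).1 (repWith_baseChange sqR'.flip hπe)
  obtain ⟨jR, hjR⟩ := exists_map_eq (sqR'.lift ((yon S).map (a ≫ ι)) ((yon S).map (b ≫ ι)) (by
    rw [Functor.map_comp, Functor.map_comp, Category.assoc, Category.assoc, ← sqU.w, ← Category.assoc, sqRz.w,
      Category.assoc]))
  have hj₁ : jR ≫ p₁ = a ≫ ι := (yon S).map_injective (by rw [Functor.map_comp, hjR, sqR'.lift_fst])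
  have hj₂ : jR ≫ p₂ = b ≫ ι := (yon S).map_injective (by rw [Functor.map_comp, hjR, sqR'.lift_snd])
  have sqj : IsPullback jR.left a.left p₁.left ι.left := by
    have h1 : IsPullback ((yon S).map b ≫ (yon S).map ι) ((yon S).map a) π ((yon S).map ι ≫ π) := by
      rw [← sqU.w]
      exact sqRz.flip.paste_horiz sqU.flip
    rw [← Functor.map_comp, ← hj₂, Functor.map_comp] at h1
    exact isPullback_yon_iff.1 (IsPullback.of_right h1 (by rw [← Functor.map_comp, ← Functor.map_comp, hj₁]) sqR'.flip)
  obtain ⟨q, hq₁, hq₂⟩ := exists_thirdProj sqR'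
  have hlift := exists_invariant_section ι.left hsq h.left sqRs sqj
    (congrArg (fun m : R ⟶ U' => m.left) hj₂) q hq₁ hq₂
  -- the ring of invariant functions
  let A' : Subring (Γ(T.left, ⊤) × Γ(U'.left, ⊤)) :=
    RingHom.eqLocus (h.left.appTop.hom.comp (RingHom.fst _ _)) (ι.left.appTop.hom.comp (RingHom.snd _ _)) ⊓
      RingHom.eqLocus (p₁.left.appTop.hom.comp (RingHom.snd _ _)) (p₂.left.appTop.hom.comp (RingHom.snd _ _))
  let prT : CommRingCat.of A' ⟶ Γ(T.left, ⊤) := CommRingCat.ofHom ((RingHom.fst _ _).comp A'.subtype)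
  let prU : CommRingCat.of A' ⟶ Γ(U'.left, ⊤) := CommRingCat.ofHom ((RingHom.snd _ _).comp A'.subtype)
  have hprT : Function.Surjective prT.hom := fun x => by
    obtain ⟨y, hy₁, hy₂⟩ := hlift x
    exact ⟨⟨(x, y), hy₁.symm, hy₂⟩, rfl⟩
  have hw : prT ≫ h.left.appTop = prU ≫ ι.left.appTop := by ext x; exact x.2.1
  have hinv : prU ≫ p₁.left.appTop = prU ≫ p₂.left.appTop := by ext x; exact x.2.2
  let gg : U'.left ⟶ Spec (CommRingCat.of A') := U'.left.isoSpec.hom ≫ Spec.map prU
  let jj : T.left ⟶ Spec (CommRingCat.of A') := T.left.isoSpec.hom ≫ Spec.map prT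
  have : IsAffine U.left := isAffine_of_isAffineHom ι.left
  have hsqg : h.left ≫ jj = ι.left ≫ gg := by
    simp only [gg, jj, ← Scheme.isoSpec_hom_naturality_assoc, ← Spec.map_comp, hw]
  have hgR : p₁.left ≫ gg = p₂.left ≫ gg := by
    apply ext_of_isAffine
    simp only [gg, Scheme.Hom.comp_appTop, Category.assoc]
    have e1 : (Spec.map prU).appTop ≫ U'.left.isoSpec.hom.appTop = (Scheme.ΓSpecIso _).hom ≫ prU := by
      rw [show U'.left.isoSpec.hom.appTop = (Scheme.ΓSpecIso Γ(U'.left, ⊤)).hom from Scheme.toSpecΓ_appTop _,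
        Scheme.ΓSpecIso_naturality]
    rw [reassoc_of% e1, reassoc_of% e1, hinv]
  let T'' : Over S := Over.mk (hS.from (Spec (CommRingCat.of A')))
  have : IsAffine T''.left := inferInstanceAs (IsAffine (Spec _))
  let g : U' ⟶ T'' := Over.homMk gg (hS.hom_ext _ _)
  let jT : T ⟶ T'' := Over.homMk jj (hS.hom_ext _ _)
  have : IsClosedImmersion jT.left := by
    have : IsClosedImmersion (Spec.map prT) := IsClosedImmersion.spec_of_surjective _ hprT
    exact inferInstanceAs (IsClosedImmersion (T.left.isoSpec.hom ≫ Spec.map prT))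
  have : Surjective jT.left := by
    have : Surjective (Spec.map prT) := ⟨fun x => by
      have hx : x ∈ PrimeSpectrum.zeroLocus (RingHom.ker prT.hom : Set (CommRingCat.of A')) := fun k hk => by
        have hk0 : (k : Γ(T.left, ⊤) × Γ(U'.left, ⊤)).1 = 0 := hk
        have hk1 : ι.left.appTop.hom (k : Γ(T.left, ⊤) × Γ(U'.left, ⊤)).2 = 0 := by
          have h1 : h.left.appTop.hom (k : Γ(T.left, ⊤) × Γ(U'.left, ⊤)).1 =
            ι.left.appTop.hom (k : Γ(T.left, ⊤) × Γ(U'.left, ⊤)).2 := k.2.1
          rw [← h1, hk0, map_zero]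
        have hk2 : (k : Γ(T.left, ⊤) × Γ(U'.left, ⊤)).2 * (k : Γ(T.left, ⊤) × Γ(U'.left, ⊤)).2 = 0 := by
          have := Ideal.mul_mem_mul (RingHom.mem_ker.2 hk1) (RingHom.mem_ker.2 hk1)
          rwa [hsq, Ideal.mem_bot] at this
        exact x.2.mem_of_pow_mem 2 (by
          rw [show k ^ 2 = 0 from Subtype.ext (Prod.ext (by simp [hk0]) (by simp [pow_two, hk2]))]
          exact zero_mem _)
      rw [← _root_.range_comap_of_surjective _ _ hprT] at hx
      exact hx⟩
    exact inferInstanceAs (Surjective (T.left.isoSpec.hom ≫ Spec.map prT))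
  have hgT : h ≫ jT = ι ≫ g := Over.OverMorphism.ext hsqg
  -- the map to the affine scheme
  have := isLocallySurjective_of_atlas hπe hπs
  obtain ⟨hcol⟩ := isColimit_of_isPullback sqR'
  have hgR' : (yon S).map p₁ ≫ (yon S).map g = (yon S).map p₂ ≫ (yon S).map g := by
    rw [← Functor.map_comp, ← Functor.map_comp]
    exact congrArg (yon S).map (Over.OverMorphism.ext hgR)
  let α : X' ⟶ (yon S).obj T'' := hcol.desc (Cofork.ofπ ((yon S).map g) hgR')
  have hα : π ≫ α = (yon S).map g := hcol.fac _ WalkingParallelPair.one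
  -- the étale scheme over it
  obtain ⟨Vs, v, cV, hv, sqV⟩ := EtInvariance.exists_descend_scheme jT.left h.left
  let V : Over S := Over.mk (hS.from Vs)
  let vO : V ⟶ T'' := Over.homMk v (hS.hom_ext _ _)
  have : Etale v := hv
  -- extend to the chart
  let c₀ : U.left ⟶ pullback gg v := pullback.lift ι.left cV (by rw [← sqV.w, ← hsqg]; rfl)
  obtain ⟨s, ⟨hs₁, hs₂⟩, -⟩ := EtInvariance.existsUnique_extend_scheme ι.left (𝟙 U'.left) (pullback.fst gg v)
    ι.left (𝟙 U.left) IsPullback.of_id_fst c₀ (by rw [pullback.lift_fst, Category.comp_id])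
  let φ : U' ⟶ V := Over.homMk (s ≫ pullback.snd gg v) (hS.hom_ext _ _)
  have hφv : φ ≫ vO = g := Over.OverMorphism.ext (by
    show (s ≫ pullback.snd gg v) ≫ v = gg
    rw [Category.assoc, ← pullback.condition, reassoc_of% hs₁])
  have hιφ : ι.left ≫ φ.left = cV := by
    show ι.left ≫ s ≫ pullback.snd gg v = cV
    rw [reassoc_of% hs₂, pullback.lift_snd]
  -- the chart is the pullback of the étale scheme
  have hvs : Surjective v := EtInvariance.surjective_of_thick sqV.flip
  have hye : RepWith @Etale ((yon S).map vO) := (repWith_yon_iff vO).2 hv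
  have hys : RepWith @Surjective ((yon S).map vO) := (repWith_yon_iff vO).2 hvs
  let P' := pullback α ((yon S).map vO)
  have hP' : IsAlgSpace P' := isAlgSpace_of_isPullback_space (IsAlgSpace.yon_obj T'') hX' (IsAlgSpace.yon_obj V)
    (IsPullback.of_hasPullback α ((yon S).map vO))
  let f₀ : (yon S).obj U' ⟶ P' := pullback.lift π ((yon S).map φ) (by rw [hα, ← Functor.map_comp, hφv])
  have hf₀ : IsIso f₀ := by
    obtain ⟨Wp, w₁, w₂, sqW⟩ := exists_pullback (IsAlgSpace.yon_obj T'').diag ((yon S).map g) ((yon S).map vO)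
    let cp : (yon S).obj Wp ⟶ P' := pullback.lift ((yon S).map w₁ ≫ π) ((yon S).map w₂)
      (by rw [Category.assoc, hα]; exact sqW.w)
    have sqcp : IsPullback cp ((yon S).map w₁) (pullback.fst α ((yon S).map vO)) π :=
      IsPullback.of_right (by rw [pullback.lift_snd, hα]; exact sqW.flip) (pullback.lift_fst _ _ _)
        (IsPullback.of_hasPullback α ((yon S).map vO)).flip
    obtain ⟨ψ, hψ⟩ := exists_map_eq (sqW.lift ((yon S).map p₁) ((yon S).map (p₂ ≫ φ)) (by
      rw [Functor.map_comp, Category.assoc, ← (yon S).map_comp φ, hφv, hgR']))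
    have hψ₁ : ψ ≫ w₁ = p₁ := (yon S).map_injective (by rw [Functor.map_comp, hψ, sqW.lift_fst])
    have hψ₂ : ψ ≫ w₂ = p₂ ≫ φ := (yon S).map_injective (by rw [Functor.map_comp, hψ, sqW.lift_snd])
    have sqψ : IsPullback ((yon S).map p₂) ((yon S).map ψ) f₀ cp := by
      refine IsPullback.of_bot ?_ ?_ sqcp
      · rw [pullback.lift_fst, ← Functor.map_comp, hψ₁]
        exact sqR'.flip
      · apply pullback.hom_ext
        · rw [Category.assoc, pullback.lift_fst, Category.assoc, pullback.lift_fst, ← Category.assoc, ← Functor.map_comp,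
            hψ₁]
          exact sqR'.w.symm
        · rw [Category.assoc, pullback.lift_snd, Category.assoc, pullback.lift_snd, ← Functor.map_comp,
            ← Functor.map_comp, hψ₂]
    -- over the thickened chart it is an isomorphism
    have sqWs : IsPullback w₁.left w₂.left gg v := isPullback_yon_iff.1 sqW
    have : Etale w₁.left := MorphismProperty.of_isPullback (P := @Etale) sqWs.flip hv
    have hψe : Etale ψ.left := by
      have : Etale (ψ.left ≫ w₁.left) := by rw [← Over.comp_left, hψ₁]; exact hp₁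
      exact Etale.of_comp ψ.left w₁.left
    let W₀ := pullback h.left h.left
    let k : R.left ⟶ W₀ := sqRs.isoPullback.hom
    let jW : W₀ ⟶ Wp.left := sqWs.lift (pullback.fst _ _ ≫ ι.left) (pullback.snd _ _ ≫ cV) (by
      rw [Category.assoc, ← hsqg, Category.assoc, ← sqV.w, pullback.condition_assoc]
      rfl)
    have sqjW : IsPullback jW (pullback.fst h.left h.left) w₁.left ι.left := by
      refine IsPullback.of_right ?_ (sqWs.lift_fst _ _ _) sqWs.flip
      rw [sqWs.lift_snd, ← hsqg]
      exact (IsPullback.of_hasPullback h.left h.left).flip.paste_horiz sqV.flip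
    have : IsClosedImmersion jW := MorphismProperty.of_isPullback (P := @IsClosedImmersion) sqjW.flip ‹_›
    have : Surjective jW := MorphismProperty.of_isPullback (P := @Surjective) sqjW.flip ‹_›
    have sqk : IsPullback jR.left k ψ.left jW := by
      refine IsPullback.of_bot ?_ ?_ sqjW
      · rw [← Over.comp_left, hψ₁, sqRs.isoPullback_hom_fst]
        exact sqj
      · apply sqWs.hom_ext
        · rw [Category.assoc, ← Over.comp_left, hψ₁, Category.assoc, sqWs.lift_fst, sqRs.isoPullback_hom_fst_assoc,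
            ← Over.comp_left, hj₁, Over.comp_left]
        · rw [Category.assoc, ← Over.comp_left, hψ₂, Category.assoc, sqWs.lift_snd, sqRs.isoPullback_hom_snd_assoc,
            Over.comp_left, ← Category.assoc, ← Over.comp_left, hj₂, Over.comp_left, Category.assoc, hιφ]
    have : IsIso ψ.left := EtInvariance.isIso_of_thick sqk
    have hf0r : Representable f₀ := Functor.relativelyRepresentable.of_diag hP'.diag f₀
    exact (isIso_iff_repWith f₀).2 (SpDesc.repWith_of_chart (MorphismProperty.isomorphisms Scheme.{u}) hP' hf0r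
      (repWith_baseChange sqcp.flip hπe) (repWith_baseChange sqcp.flip hπs) sqψ this)
  have sqα : IsPullback π ((yon S).map φ) α ((yon S).map vO) :=
    (IsPullback.of_hasPullback α ((yon S).map vO)).of_iso (asIso f₀).symm (Iso.refl _) (Iso.refl _) (Iso.refl _)
      (by simp [f₀]) (by simp [f₀]) (by simp) (by simp)
  have : IsAffine Vs := by
    have : IsClosedImmersion cV := MorphismProperty.of_isPullback (P := @IsClosedImmersion) sqV ‹_›
    have : Surjective cV := MorphismProperty.of_isPullback (P := @Surjective) sqV ‹_›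
    exact NilAffine.isAffine_of_surjective cV
  have : IsAffine V.left := ‹IsAffine Vs›
  have hφa : RepWith @IsAffineHom ((yon S).map φ) := (repWith_yon_iff φ).2 (inferInstance : IsAffineHom φ.left)
  have hαa : RepWith @IsAffineHom α := AlgSpLib.of_chart (isLocalOnBase_repWith @IsAffineHom fun _ _ r hr => by
    have : IsAffineHom r := hr
    exact indQA_of_isAffineHom r) hX' (IsAlgSpace.yon_obj T'') α hye hys sqα hφa
  obtain ⟨T', fst, w', sqT, hw'⟩ := exists_repWith hαa (𝟙 ((yon S).obj T''))
  have := sqT.isIso_fst_of_isIso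
  exact ⟨T', isAffine_of_isAffineHom w'.left, ⟨asIso fst⟩⟩

end Groth.Agent.SpThick
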